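import Cfsg.Agent.Spor.J4D.V.D0

set_option autoImplicit false
set_option maxRecDepth 100000000
set_option Elab.async false

namespace Cfsg.Agent.Spor.J4D.V

theorem gr2 : sub (ones 15180) (U.growI W1 [1, 2, 1, 0, 1, 2, 1, 0, 1, 1, 0, 1, 2, 1, 0, 1, 1, 0, 1, 1, 0, 1, 1, 0, 1, 1, 0, 1, 1, 0, 1, 1, 0, 1, 1, 0, 1, 1, 0, 1, 1, 0, 1, 1, 0, 1, 1, 0, 1, 1, 0] (Nat.shiftLeft 1 0)) = true := by decide +kernel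

theorem cl4 : band (U.closedW W1 (ones 15180)) (sub (Nat.shiftLeft 1 0) (ones 15180)) = true := by decide +kernel

theorem sz5 : sizeOk 14 (ones 15180) 15180 = true := by decide +kernel

theorem fx8 : U.closedW W7 (Nat.shiftLeft 1 0) = true := by decide +kernel

theorem okL : J4G.D.okL 1951 [106, 115] [[2, 0, 3, 0, 2, 0, 3, 0, 2, 0, 3, 0, 2, 0, 3, 0, 3, 0, 3, 0, 3, 0, 3, 0, 3, 0, 3, 0, 2, 0, 2, 0, 2, 0, 3, 0, 2, 0, 3, 0, 2, 0, 3, 0, 2, 1, 3, 1, 3, 1, 3, 1, 3, 1, 2, 1, 3, 1, 2, 1, 4, 0, 3, 0, 2, 0, 3, 0, 2, 0, 2, 0, 2, 0, 2, 0], [0, 3, 0, 3, 0, 2, 0, 3, 0, 2, 0, 3, 0, 2, 0, 3, 0, 3, 0, 2, 0, 2, 0, 2, 0, 3, 0, 2, 0, 3, 0, 2, 0, 2, 0, 2, 0, 3, 0, 2, 0, 3, 0, 2, 1, 3, 1, 3, 1, 3, 1, 2, 1, 3, 1, 3, 1, 3, 1, 3, 1, 4, 0, 2, 0, 2, 0, 2, 0, 2, 0, 3, 0, 2, 0, 2, 0, 2,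 0]] = true := by decide +kernel

theorem okS0 : J4G.D.okS 1951 0 [4, 5, 7] [[0], [2], [4]] = true := by decide +kernel

theorem okS1 : J4G.D.okS 1951 1 [106, 115] [[3, 0, 2, 0, 3, 0, 2, 0, 2, 0, 2, 0, 3, 0, 2, 0, 2, 0, 2, 0, 2, 0, 2, 0, 3, 0, 3, 0, 3, 0, 3, 0, 2, 0, 2, 0, 2, 0, 3, 0, 3, 0, 2, 0, 2, 0, 2, 0, 3, 0, 2, 0, 2, 1, 2, 1, 3, 1, 3, 1, 3, 1, 3, 1, 2, 1, 4, 0, 3, 0, 2, 0, 2, 0, 2, 0, 2, 0, 3, 0], [3, 0, 2, 0, 3, 0, 2, 0, 3, 0, 3, 0, 3, 0, 2, 0, 3, 0, 2, 0, 3, 0, 3, 0, 3, 0, 2, 0, 2, 0, 3, 0, 2, 0, 3, 0, 2, 0, 3, 3, 1, 2, 1, 3, 1, 3, 1, 3, 1, 3, 1, 4, 0, 2, 0, 2, 0, 2, 0, 2, 0, 3, 0, 2, 0, 2, 0, 2, 0]] = true := by decide +kernel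

theorem ed10a : lall (J4G.D.okEd 1951 1 J) ed10 = true := by decide +kernel

theorem ed10b : band (lall (fun e => lall (fun y => Nat.blt y (2 * 3)) e.w) ed10) (sub M11 (edMask (U.pls 14 (2 * 3) 0) ed10)) = true := by decide +kernel

theorem gr12 : sub (ones 15180) (U.growI W9 [0, 1, 1, 0, 0, 1, 1, 0, 0, 1, 1, 0, 0, 1, 1, 0, 0, 1, 1, 0, 0, 1, 1, 0, 0, 1] M11) = true := by decide +kernel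

theorem loop1 : J4G.D.loop 1951 1 396 = true := by decide +kernel

theorem okS4 : J4G.D.okS 1951 4 [791, 803] [[0, 2, 0, 2, 0, 2, 0, 2, 0, 2, 0, 3, 0, 2, 0, 2, 0, 2, 0, 3, 0, 3, 0, 3, 0, 3, 0, 3, 0, 3, 0, 3, 0, 3, 0, 3, 0, 2, 0, 3, 0, 3, 0, 3, 0, 3, 0, 2, 0, 3, 0, 2, 2, 1, 3, 1, 3, 1, 2, 1, 2, 1, 2, 1, 2, 1, 3, 1, 2, 1, 4, 0, 3, 0, 2, 0, 3, 0, 3, 0, 3, 0, 3, 0, 2, 0, 2, 0, 3, 0, 2], [2, 0, 2, 0, 3, 0, 3, 0, 3, 0, 3, 0, 3, 0, 3, 0, 3, 0, 2, 0, 2, 0, 2, 0, 3, 0, 2, 0, 3, 0, 2, 0, 3, 0, 3, 0, 3, 0, 2, 0, 3, 0, 3, 0, 3, 0, 3, 0, 3, 0, 3, 0, 3, 3, 1, 3, 1, 3, 1, 2, 1, 2, 1, 2, 1, 3, 1, 2, 1, 2, 1, 2, 1, 4, 0, 3, 0, 3, 0, 3, 0, 2, 0, 3, 0, 3, 0, 3, 0, 2, 0, 2, 0, 2]] = true := by decide +kernel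

theorem ed14a : lall (J4G.D.okEd 1951 4 J) ed14 = true := by decide +kernel

theorem ed14b : band (lall (fun e => lall (fun y => Nat.blt y (2 * 3)) e.w) ed14) (sub M15 (edMask (U.pls 14 (2 * 3) 0) ed14)) = true := by decide +kernel

theorem gr17 : sub M16 (U.growI W13 [0, 1, 1, 0, 0, 1, 1, 0, 0, 1, 1, 0, 0, 1, 1, 0, 0, 1, 1, 0, 0] M15) = true := by decide +kernel

theorem gr18 : sub (ones 15180) (U.growI W13 [1, 1, 0, 0, 1] M16) = true := by decide +kernel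

theorem loop4 : J4G.D.loop 1951 4 960 = true := by decide +kernel

theorem okS6 : J4G.D.okS 1951 6 [1118, 1124] [[0, 3, 0, 2, 0, 2, 0, 3, 0, 2, 0, 3, 0, 3, 0, 3, 0, 2, 0, 2, 0, 3, 0, 3, 0, 2, 0, 3, 0, 2, 0, 3, 0, 2, 0, 3, 0, 3, 0, 3, 0, 2, 0, 3, 0, 3, 0, 3, 0, 3, 0, 2, 0, 3, 0, 2, 2, 1, 2, 1, 2, 1, 2, 1, 3, 1, 2, 1, 3, 1, 2, 1, 3, 1, 2, 1, 3, 1, 4, 0, 2, 0, 3, 0, 2, 0, 3, 0, 2, 0, 3, 0, 2, 0, 3, 0, 3, 0, 3, 0, 3], [0, 2, 0, 3, 0, 2, 0, 3, 0, 2, 0, 2, 0, 2, 0, 3, 0, 2, 0, 2, 0, 2, 0, 2, 0, 2, 0, 2, 0, 3, 0, 3, 0, 2, 0, 2, 0, 3, 0, 3, 0, 3, 0, 3, 0, 3, 0, 2, 0, 3, 3, 1, 2, 1, 3, 1, 2, 1, 2, 1, 3, 1, 3, 1, 3, 1, 3, 1, 2, 1, 2, 1, 4, 0, 3, 0, 3, 0, 2, 0, 2, 0, 2, 0, 2, 0, 3, 0, 3, 0, 2, 0, 3, 0, 2]] = true := by decide +kernel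

theorem ed20a : lall (J4G.D.okEd 1951 6 J) ed20 = true := by decide +kernel

theorem ed20b : band (lall (fun e => lall (fun y => Nat.blt y (2 * 3)) e.w) ed20) (sub M21 (edMask (U.pls 14 (2 * 3) 0) ed20)) = true := by decide +kernel

theorem gr23 : sub M22 (U.growI W19 [0, 1, 1, 0, 0, 1, 1, 0, 0, 1, 1, 0, 0, 1, 1, 0, 0, 1, 1, 0] M21) = true := by decide +kernel

theorem gr24 : sub (ones 15180) (U.growI W19 [0, 1, 1, 0] M22) = true := by decide +kernel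

theorem loop6 : J4G.D.loop 1951 6 889 = true := by decide +kernel

theorem okS7 : J4G.D.okS 1951 7 [1454, 1462] [[0, 2, 0, 3, 0, 3, 0, 2, 0, 2, 0, 3, 0, 3, 0, 3, 0, 3, 0, 2, 0, 3, 0, 3, 0, 3, 0, 2, 0, 3, 0, 3, 0, 3, 0, 3, 0, 2, 0, 3, 0, 3, 0, 3, 0, 3, 0, 3, 0, 2, 2, 1, 4, 2, 1, 2, 1, 2, 1, 4, 0, 3, 0, 3, 0, 3, 0, 3, 0, 3], [2, 0, 2, 0, 3, 0, 2, 0, 2, 0, 2, 0, 2, 0, 3, 0, 2, 0, 3, 0, 2, 0, 2, 0, 2, 0, 3, 0, 2, 0, 3, 0, 2, 0, 3, 0, 3, 0, 2, 0, 2, 0, 3, 0, 3, 0, 2, 0, 3, 3, 1, 3, 1, 3, 1, 3, 1, 3, 1, 2, 1, 2, 1, 4, 0, 3, 0, 3, 0, 2, 0, 2, 0, 2, 0, 2, 0, 2, 0]] = true := by decide +kernel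

theorem ed26a : lall (J4G.D.okEd 1951 7 J) ed26 = true := by decide +kernel

theorem ed26b : band (lall (fun e => lall (fun y => Nat.blt y (2 * 3)) e.w) ed26) (sub M27 (edMask (U.pls 14 (2 * 3) 0) ed26)) = true := by decide +kernel

theorem gr28 : sub (ones 15180) (U.growI W25 [0, 1, 1, 0, 0, 1, 1, 0, 0, 1, 1, 0, 0, 1, 1, 0, 0, 1, 1, 0, 0, 1, 1, 0] M27) = true := by decide +kernel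

theorem loop7 : J4G.D.loop 1951 7 1494 = true := by decide +kernel

theorem okS10 : J4G.D.okS 1951 10 [1670, 1674] [[0, 2, 0, 2, 0, 2, 0, 3, 0, 2, 0, 3, 0, 2, 0, 2, 0, 3, 0, 3, 0, 3, 0, 2, 0, 2, 0, 3, 0, 3, 0, 3, 0, 3, 0, 3, 0, 3, 0, 2, 0, 2, 0, 2, 0, 2, 1, 2, 1, 2, 1, 3, 1, 2, 1, 3, 1, 2, 1, 2, 1, 3, 1, 2, 1, 3, 1, 4, 0, 2, 0, 3, 0, 2, 0, 3, 0, 3, 0, 2, 0, 3, 0, 2, 0, 3, 0, 3, 0, 3], [3, 0, 2, 0, 3, 0, 2, 0, 3, 0, 2, 0, 3, 0, 3, 0, 3, 0, 3, 0, 3, 0, 2, 0, 3, 0, 2, 0, 3, 0, 3, 0, 3, 0, 3, 0, 3, 0, 2, 0, 2, 0, 2, 0, 3, 0, 2, 0, 3, 0, 3, 0, 2, 0, 3, 1, 2, 1, 3, 1, 2, 1, 2, 1, 3, 1, 3, 1, 4, 0, 2, 0, 2, 0, 3, 0, 3, 0, 2, 0, 3, 0, 2]] = true := by decide +kernel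

theorem ed30a : lall (J4G.D.okEd 1951 10 J) ed30 = true := by decide +kernel

theorem ed30b : band (lall (fun e => lall (fun y => Nat.blt y (2 * 3)) e.w) ed30) (sub M31 (edMask (U.pls 14 (2 * 3) 0) ed30)) = true := by decide +kernel

theorem gr33 : sub M32 (U.growI W29 [0, 1, 1, 0, 0, 1, 1, 0, 0, 1, 1, 0, 0, 1, 1, 0, 0, 1, 1, 0, 0, 1, 1] M31) = true := by decide +kernel

theorem gr34 : sub (ones 15180) (U.growI W29 [0] M32) = true := by decide +kernel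

theorem loop10 : J4G.D.loop 1951 10 1535 = true := by decide +kernel

theorem okS12 : J4G.D.okS 1951 12 [1760, 1768] [[0, 2, 0, 3, 0, 3, 0, 2, 0, 2, 0, 2, 0, 2, 0, 3, 0, 2, 0, 2, 0, 3, 0, 3, 0, 2, 0, 2, 0, 2, 0, 2, 0, 3, 0, 2, 0, 3, 0, 2, 0, 3, 0, 2, 2, 1, 3, 1, 2, 1, 3, 1, 2, 1, 3, 1, 3, 1, 2, 1, 2, 1, 4, 0, 3, 0, 3, 0, 2, 0, 2, 0, 3, 0, 2, 0, 3, 0, 2, 0, 3, 0, 2], [3, 0, 3, 0, 3, 0, 2, 0, 2, 0, 3, 0, 3, 0, 2, 0, 2, 0, 2, 0, 2, 0, 2, 0, 2, 0, 2, 0, 2, 0, 2, 0, 3, 0, 2, 0, 3, 0, 3, 0, 3, 0, 3, 0, 3, 0, 2, 2, 1, 2, 1, 4, 0, 3, 0, 3, 1, 2, 1, 3, 1, 4, 0, 2, 0, 3, 0]] = true := by decide +kernel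

theorem ed36a : lall (J4G.D.okEd 1951 12 J) ed36 = true := by decide +kernel

theorem ed36b : band (lall (fun e => lall (fun y => Nat.blt y (2 * 3)) e.w) ed36) (sub M37 (edMask (U.pls 14 (2 * 3) 0) ed36)) = true := by decide +kernel

theorem gr38 : sub (ones 15180) (U.growI W35 [0, 1, 1, 0, 0, 1, 1, 0, 0, 1, 1, 0, 0, 1, 1, 0, 0, 1, 1, 0, 0, 1, 1, 0] M37) = true := by decide +kernel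

theorem loop12 : J4G.D.loop 1951 12 1823 = true := by decide +kernel

theorem rinv : band (Nat.blt 3 1951) ((J4G.D.fc 3).onR fun r => onCons r fun _ r' => onCons r' fun _ => isNil) = true := by decide +kernel

end Cfsg.Agent.Spor.J4D.V
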