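import Cfsg.Agent.Spor.Prim
import Cfsg.Agent.Spor.J4D.Main
import Cfsg.Agent.Spor.J4D.V.C0
import Cfsg.Agent.Spor.J4N.VB.Main
import Cfsg.Agent.Spor.J4G.Main

set_option autoImplicit false
set_option maxRecDepth 100000000
set_option Elab.async false

namespace Cfsg.Agent.Spor.J4D.V

theorem hU : U.Ok 14 := U.ok_of 14 (show AllP (fun n => Net.okb 14 n = true) [n0, n1, n2] from AllP.cons ok0 (AllP.cons ok1 (AllP.cons ok2 (AllP.nil))))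

theorem hfP : ∀ j < 3, U.fP [1, 3, 5] j = fP j := by
  intro j hj
  interval_cases j <;> rfl
theorem eG : gsub 3 fP = U.lsub W1 := (gsub_congr hfP).symm.trans (lsub_eq_gsub U [1, 3, 5])
theorem hom : ∃ φ : J4N.P →* Equiv.Perm ℕ, ∀ j < 3, φ (J4N.p j) = fP j :=
  J4N.bound.exists_hom (by norm_num) J4N.pres pres J4N.lbP
noncomputable def φ : J4N.P →* Equiv.Perm ℕ := hom.choose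
theorem hφ : ∀ j < 3, φ (J4N.p j) = fP j := hom.choose_spec
theorem link : U.Link φ (atm 3 J4N.p) (2 * 3) :=
  Tab.Link.of (fun j hj => (hφ j hj).trans (by interval_cases j <;> rfl)) (by decide +kernel)
def LW : List (List Nat) := [[2, 0, 3, 0, 2, 0, 3, 0, 2, 0, 3, 0, 2, 0, 3, 0, 3, 0, 3, 0, 3, 0, 3, 0, 3, 0, 3, 0, 2, 0, 2, 0, 2, 0, 3, 0, 2, 0, 3, 0, 2, 0, 3, 0, 2, 1, 3, 1, 3, 1, 3, 1, 3, 1, 2, 1, 3, 1, 2, 1, 4, 0, 3, 0, 2, 0, 3, 0, 2, 0, 2, 0, 2, 0, 2, 0], [0, 3, 0, 3, 0, 2, 0, 3, 0, 2, 0, 3, 0, 2, 0, 3, 0, 3, 0, 2, 0, 2, 0, 2, 0, 3, 0, 2, 0, 3, 0, 2, 0, 2, 0, 2, 0, 3, 0, 2, 0, 3, 0, 2, 1, 3, 1, 3, 1, 3, 1, 2, 1, 3, 1, 3, 1, 3, 1, 3, 1, 4, 0, 2, 0, 2, 0, 2, 0, 2, 0, 3, 0,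 2, 0, 2, 0, 2, 0]]
theorem reach3 : Reach (U.lsub W1) 0 (ones 15180) := (Reach.grow hU (Reach.base _ 0) gr2)
theorem orb6 : (orbS (U.lsub W1) 0).ncard = 15180 := reach3.ncard hU cl4 sz5
theorem orb6e : orbS (U.lsub W1) 0 = {c | Nat.testBit (ones 15180) c = true} := reach3.orb hU cl4
theorem act : CosetAct (wsub 3 J4N.p LW) φ 15180 :=
  CosetAct.of_count (link.fix hU (W := W7) (by decide +kernel) (hU.fixes fx8))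
    (by rw [range_eq_gsub hφ (gsub_lift 3 _), eG]; exact orb6e) J4N.VB.cardL J4N.cardP
section
variable {R : Type} [CommRing R] {G : Type} [Group G] {Y : DCtx J4G.D R J4N.P G}
  (hu : Y.Upto 1951) (hg : Y.X.Gens J4G.TT (atm 3 J4N.p))
include hu hg

theorem env : Y.Env 1951 3 J4N.p φ 15180 U 14 :=
  ⟨hu, J4G.one, hg, ⟨_, act, hu.okL J4G.one hg okL⟩, hU, link⟩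
theorem cos0 : Y.CosOk 3 J4N.p J (0, [[0], [2], [4]], 501397585920) :=
  DCtx.cos_zero hu J4G.one hg (gsub_lift 3 _) J4N.cardP okS0 (by decide +kernel)
theorem hW1 : U.lsub W9 ≤ (Y.stabS (Y.sym 1)).map φ := (env hu hg).hW okS1 (by decide +kernel)
theorem cos1 : Y.CosOk 3 J4N.p J (1, [[3, 0, 2, 0, 3, 0, 2, 0, 2, 0, 2, 0, 3, 0, 2, 0, 2, 0, 2, 0, 2, 0, 2, 0, 3, 0, 3, 0, 3, 0, 3, 0, 2, 0, 2, 0, 2, 0, 3, 0, 3, 0, 2, 0, 2, 0, 2, 0, 3, 0, 2, 0, 2, 1, 2, 1, 3, 1, 3, 1, 3, 1, 3, 1, 2, 1, 4, 0, 3, 0, 2, 0, 2, 0, 2, 0, 2, 0, 3, 0], [3, 0, 2, 0, 3, 0, 2, 0, 3, 0, 3, 0, 3, 0, 2, 0, 3, 0, 2, 0, 3, 0, 3, 0, 3, 0, 2, 0, 2, 0, 3, 0, 2, 0, 3, 0, 2, 0, 3, 3, 1, 2, 1, 3, 1, 3, 1, 3, 1, 3, 1,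 4, 0, 2, 0, 2, 0, 2, 0, 2, 0, 3, 0, 2, 0, 2, 0, 2, 0]], 33030144) :=
  (env hu hg).cos okS1 J4N.VB.cardS1 (((env hu hg).edges ed10a ed10b).grow hU (hW1 hu hg) gr12)
theorem hW4 : U.lsub W13 ≤ (Y.stabS (Y.sym 4)).map φ := (env hu hg).hW okS4 (by decide +kernel)
theorem cos4 : Y.CosOk 3 J4N.p J (4, [[0, 2, 0, 2, 0, 2, 0, 2, 0, 2, 0, 3, 0, 2, 0, 2, 0, 2, 0, 3, 0, 3, 0, 3, 0, 3, 0, 3, 0, 3, 0, 3, 0, 3, 0, 3, 0, 2, 0, 3, 0, 3, 0, 3, 0, 3, 0, 2, 0, 3, 0, 2, 2, 1, 3, 1, 3, 1, 2, 1, 2, 1, 2, 1, 2, 1, 3, 1, 2, 1, 4, 0, 3, 0, 2, 0, 3, 0, 3, 0, 3, 0, 3, 0, 2, 0, 2, 0, 3, 0, 2], [2, 0, 2, 0, 3, 0, 3, 0, 3, 0, 3, 0, 3, 0, 3, 0, 3, 0, 2, 0, 2, 0, 2, 0, 3, 0, 2, 0, 3, 0, 2, 0, 3, 0, 3,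 0, 3, 0, 2, 0, 3, 0, 3, 0, 3, 0, 3, 0, 3, 0, 3, 0, 3, 3, 1, 3, 1, 3, 1, 2, 1, 2, 1, 2, 1, 3, 1, 2, 1, 2, 1, 2, 1, 4, 0, 3, 0, 3, 0, 3, 0, 2, 0, 3, 0, 3, 0, 3, 0, 2, 0, 2, 0, 2]], 17694720) :=
  (env hu hg).cos okS4 J4N.VB.cardS4 ((((env hu hg).edges ed14a ed14b).grow hU (hW4 hu hg) gr17).grow hU (hW4 hu hg) gr18)
theorem hW6 : U.lsub W19 ≤ (Y.stabS (Y.sym 6)).map φ := (env hu hg).hW okS6 (by decide +kernel)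
theorem cos6 : Y.CosOk 3 J4N.p J (6, [[0, 3, 0, 2, 0, 2, 0, 3, 0, 2, 0, 3, 0, 3, 0, 3, 0, 2, 0, 2, 0, 3, 0, 3, 0, 2, 0, 3, 0, 2, 0, 3, 0, 2, 0, 3, 0, 3, 0, 3, 0, 2, 0, 3, 0, 3, 0, 3, 0, 3, 0, 2, 0, 3, 0, 2, 2, 1, 2, 1, 2, 1, 2, 1, 3, 1, 2, 1, 3, 1, 2, 1, 3, 1, 2, 1, 3, 1, 4, 0, 2, 0, 3, 0, 2, 0, 3, 0, 2, 0, 3, 0, 2, 0, 3, 0, 3, 0, 3, 0, 3], [0, 2, 0, 3, 0, 2, 0, 3, 0, 2, 0, 2, 0, 2, 0, 3, 0, 2, 0, 2, 0, 2, 0, 2, 0, 2, 0, 2, 0, 3, 0, 3, 0, 2, 0, 2, 0, 3, 0, 3, 0, 3, 0, 3, 0, 3, 0, 2, 0, 3, 3, 1, 2, 1, 3, 1, 2, 1, 2, 1, 3, 1, 3, 1, 3, 1, 3, 1, 2, 1, 2, 1, 4, 0, 3, 0, 3, 0, 2, 0, 2, 0, 2, 0, 2, 0, 3, 0, 3, 0, 2, 0, 3, 0, 2]], 147456) :=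
  (env hu hg).cos okS6 J4N.VB.cardS6 ((((env hu hg).edges ed20a ed20b).grow hU (hW6 hu hg) gr23).grow hU (hW6 hu hg) gr24)
theorem hW7 : U.lsub W25 ≤ (Y.stabS (Y.sym 7)).map φ := (env hu hg).hW okS7 (by decide +kernel)
theorem cos7 : Y.CosOk 3 J4N.p J (7, [[0, 2, 0, 3, 0, 3, 0, 2, 0, 2, 0, 3, 0, 3, 0, 3, 0, 3, 0, 2, 0, 3, 0, 3, 0, 3, 0, 2, 0, 3, 0, 3, 0, 3, 0, 3, 0, 2, 0, 3, 0, 3, 0, 3, 0, 3, 0, 3, 0, 2, 2, 1, 4, 2, 1, 2, 1, 2, 1, 4, 0, 3, 0, 3, 0, 3, 0, 3, 0, 3], [2, 0, 2, 0, 3, 0, 2, 0, 2, 0, 2, 0, 2, 0, 3, 0, 2, 0, 3, 0, 2, 0, 2, 0, 2, 0, 3, 0, 2, 0, 3, 0, 2, 0, 3, 0, 3, 0, 2, 0, 2, 0, 3, 0, 3, 0, 2, 0, 3, 3, 1, 3, 1, 3, 1, 3, 1, 3, 1, 2, 1, 2, 1, 4, 0, 3, 0, 3, 0, 2,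 0, 2, 0, 2, 0, 2, 0, 2, 0]], 15360) :=
  (env hu hg).cos okS7 J4N.VB.cardS7 (((env hu hg).edges ed26a ed26b).grow hU (hW7 hu hg) gr28)
theorem hW10 : U.lsub W29 ≤ (Y.stabS (Y.sym 10)).map φ := (env hu hg).hW okS10 (by decide +kernel)
theorem cos10 : Y.CosOk 3 J4N.p J (10, [[0, 2, 0, 2, 0, 2, 0, 3, 0, 2, 0, 3, 0, 2, 0, 2, 0, 3, 0, 3, 0, 3, 0, 2, 0, 2, 0, 3, 0, 3, 0, 3, 0, 3, 0, 3, 0, 3, 0, 2, 0, 2, 0, 2, 0, 2, 1, 2, 1, 2, 1, 3, 1, 2, 1, 3, 1, 2, 1, 2, 1, 3, 1, 2, 1, 3, 1, 4, 0, 2, 0, 3, 0, 2, 0, 3, 0, 3, 0, 2, 0, 3, 0, 2, 0, 3, 0, 3, 0, 3], [3, 0, 2, 0, 3, 0, 2, 0, 3, 0, 2, 0, 3, 0, 3, 0, 3, 0, 3, 0, 3, 0, 2, 0, 3, 0, 2, 0, 3, 0, 3, 0, 3, 0, 3, 0, 3, 0, 2, 0, 2, 0, 2, 0, 3,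 0, 2, 0, 3, 0, 3, 0, 2, 0, 3, 1, 2, 1, 3, 1, 2, 1, 2, 1, 3, 1, 3, 1, 4, 0, 2, 0, 2, 0, 3, 0, 3, 0, 2, 0, 3, 0, 2]], 9216) :=
  (env hu hg).cos okS10 J4N.VB.cardS10 ((((env hu hg).edges ed30a ed30b).grow hU (hW10 hu hg) gr33).grow hU (hW10 hu hg) gr34)
theorem hW12 : U.lsub W35 ≤ (Y.stabS (Y.sym 12)).map φ := (env hu hg).hW okS12 (by decide +kernel)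
theorem cos12 : Y.CosOk 3 J4N.p J (12, [[0, 2, 0, 3, 0, 3, 0, 2, 0, 2, 0, 2, 0, 2, 0, 3, 0, 2, 0, 2, 0, 3, 0, 3, 0, 2, 0, 2, 0, 2, 0, 2, 0, 3, 0, 2, 0, 3, 0, 2, 0, 3, 0, 2, 2, 1, 3, 1, 2, 1, 3, 1, 2, 1, 3, 1, 3, 1, 2, 1, 2, 1, 4, 0, 3, 0, 3, 0, 2, 0, 2, 0, 3, 0, 2, 0, 3, 0, 2, 0, 3, 0, 2], [3, 0, 3, 0, 3, 0, 2, 0, 2, 0, 3, 0, 3, 0, 2, 0, 2, 0, 2, 0, 2, 0, 2, 0, 2, 0, 2, 0, 2, 0, 2, 0, 3, 0, 2, 0, 3, 0, 3, 0, 3, 0, 3, 0, 3, 0, 2, 2, 1, 2, 1, 4, 0, 3, 0, 3, 1, 2, 1, 3, 1, 4, 0, 2, 0, 3, 0]], 6072) :=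
  (env hu hg).cos okS12 J4N.VB.cardS12 (((env hu hg).edges ed36a ed36b).grow hU (hW12 hu hg) gr38)
theorem done : Y.Done 3 J4N.p CL 501397585920 173067389 :=
  ⟨J4N.cardP, by norm_num, show AllP (Y.CosOk 3 J4N.p J) [(0, [[0], [2], [4]], 501397585920), (1, [[3, 0, 2, 0, 3, 0, 2, 0, 2, 0, 2, 0, 3, 0, 2, 0, 2, 0, 2, 0, 2, 0, 2, 0, 3, 0, 3, 0, 3, 0, 3, 0, 2, 0, 2, 0, 2, 0, 3, 0, 3, 0, 2, 0, 2, 0, 2, 0, 3, 0, 2, 0, 2, 1, 2, 1, 3, 1, 3, 1, 3, 1, 3, 1, 2, 1, 4, 0, 3, 0, 2, 0, 2, 0, 2, 0, 2, 0, 3, 0], [3, 0, 2, 0, 3, 0, 2, 0, 3, 0, 3, 0, 3, 0, 2, 0, 3, 0, 2, 0, 3, 0, 3, 0, 3, 0, 2, 0, 2, 0, 3, 0, 2, 0, 3, 0, 2, 0, 3, 3, 1, 2, 1, 3, 1, 3, 1, 3, 1, 3, 1, 4, 0, 2, 0, 2, 0, 2, 0, 2,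 0, 3, 0, 2, 0, 2, 0, 2, 0]], 33030144), (4, [[0, 2, 0, 2, 0, 2, 0, 2, 0, 2, 0, 3, 0, 2, 0, 2, 0, 2, 0, 3, 0, 3, 0, 3, 0, 3, 0, 3, 0, 3, 0, 3, 0, 3, 0, 3, 0, 2, 0, 3, 0, 3, 0, 3, 0, 3, 0, 2, 0, 3, 0, 2, 2, 1, 3, 1, 3, 1, 2, 1, 2, 1, 2, 1, 2, 1, 3, 1, 2, 1, 4, 0, 3, 0, 2, 0, 3, 0, 3, 0, 3, 0, 3, 0, 2, 0, 2, 0, 3, 0, 2], [2, 0, 2, 0, 3, 0, 3, 0, 3, 0, 3, 0, 3, 0, 3, 0, 3, 0, 2, 0, 2, 0, 2, 0, 3, 0, 2, 0, 3, 0, 2, 0, 3, 0, 3, 0, 3, 0, 2, 0, 3, 0, 3, 0, 3, 0, 3, 0, 3, 0, 3, 0, 3, 3, 1, 3, 1, 3, 1, 2, 1, 2, 1, 2, 1, 3, 1, 2, 1, 2, 1, 2, 1, 4, 0, 3, 0, 3, 0, 3, 0, 2, 0, 3, 0, 3, 0, 3, 0, 2, 0, 2, 0, 2]], 17694720), (6, [[0, 3, 0, 2, 0, 2, 0, 3, 0, 2, 0, 3, 0, 3, 0, 3, 0, 2, 0, 2,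 0, 3, 0, 3, 0, 2, 0, 3, 0, 2, 0, 3, 0, 2, 0, 3, 0, 3, 0, 3, 0, 2, 0, 3, 0, 3, 0, 3, 0, 3, 0, 2, 0, 3, 0, 2, 2, 1, 2, 1, 2, 1, 2, 1, 3, 1, 2, 1, 3, 1, 2, 1, 3, 1, 2, 1, 3, 1, 4, 0, 2, 0, 3, 0, 2, 0, 3, 0, 2, 0, 3, 0, 2, 0, 3, 0, 3, 0, 3, 0, 3], [0, 2, 0, 3, 0, 2, 0, 3, 0, 2, 0, 2, 0, 2, 0, 3, 0, 2, 0, 2, 0, 2, 0, 2, 0, 2, 0, 2, 0, 3, 0, 3, 0, 2, 0, 2, 0, 3, 0, 3, 0, 3, 0, 3, 0, 3, 0, 2, 0, 3, 3, 1, 2, 1, 3, 1, 2, 1, 2, 1, 3, 1, 3, 1, 3, 1, 3, 1, 2, 1, 2, 1, 4, 0, 3, 0, 3, 0, 2, 0, 2, 0, 2, 0, 2, 0, 3, 0, 3, 0, 2, 0, 3, 0, 2]], 147456), (7, [[0, 2, 0, 3, 0, 3, 0, 2, 0, 2, 0, 3, 0, 3, 0, 3, 0, 3, 0, 2, 0, 3, 0, 3, 0, 3, 0, 2, 0, 3, 0, 3, 0, 3, 0, 3, 0, 2, 0, 3, 0, 3, 0, 3, 0,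 3, 0, 3, 0, 2, 2, 1, 4, 2, 1, 2, 1, 2, 1, 4, 0, 3, 0, 3, 0, 3, 0, 3, 0, 3], [2, 0, 2, 0, 3, 0, 2, 0, 2, 0, 2, 0, 2, 0, 3, 0, 2, 0, 3, 0, 2, 0, 2, 0, 2, 0, 3, 0, 2, 0, 3, 0, 2, 0, 3, 0, 3, 0, 2, 0, 2, 0, 3, 0, 3, 0, 2, 0, 3, 3, 1, 3, 1, 3, 1, 3, 1, 3, 1, 2, 1, 2, 1, 4, 0, 3, 0, 3, 0, 2, 0, 2, 0, 2, 0, 2, 0, 2, 0]], 15360), (10, [[0, 2, 0, 2, 0, 2, 0, 3, 0, 2, 0, 3, 0, 2, 0, 2, 0, 3, 0, 3, 0, 3, 0, 2, 0, 2, 0, 3, 0, 3, 0, 3, 0, 3, 0, 3, 0, 3, 0, 2, 0, 2, 0, 2, 0, 2, 1, 2, 1, 2, 1, 3, 1, 2, 1, 3, 1, 2, 1, 2, 1, 3, 1, 2, 1, 3, 1, 4, 0, 2, 0, 3, 0, 2, 0, 3, 0, 3, 0, 2, 0, 3, 0, 2, 0, 3, 0, 3, 0, 3], [3, 0, 2, 0, 3, 0, 2, 0, 3, 0, 2, 0, 3, 0, 3, 0, 3, 0, 3, 0, 3, 0, 2, 0, 3, 0,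 2, 0, 3, 0, 3, 0, 3, 0, 3, 0, 3, 0, 2, 0, 2, 0, 2, 0, 3, 0, 2, 0, 3, 0, 3, 0, 2, 0, 3, 1, 2, 1, 3, 1, 2, 1, 2, 1, 3, 1, 3, 1, 4, 0, 2, 0, 2, 0, 3, 0, 3, 0, 2, 0, 3, 0, 2]], 9216), (12, [[0, 2, 0, 3, 0, 3, 0, 2, 0, 2, 0, 2, 0, 2, 0, 3, 0, 2, 0, 2, 0, 3, 0, 3, 0, 2, 0, 2, 0, 2, 0, 2, 0, 3, 0, 2, 0, 3, 0, 2, 0, 3, 0, 2, 2, 1, 3, 1, 2, 1, 3, 1, 2, 1, 3, 1, 3, 1, 2, 1, 2, 1, 4, 0, 3, 0, 3, 0, 2, 0, 2, 0, 3, 0, 2, 0, 3, 0, 2, 0, 3, 0, 2], [3, 0, 3, 0, 3, 0, 2, 0, 2, 0, 3, 0, 3, 0, 2, 0, 2, 0, 2, 0, 2, 0, 2, 0, 2, 0, 2, 0, 2, 0, 2, 0, 3, 0, 2, 0, 3, 0, 3, 0, 3, 0, 3, 0, 3, 0, 2, 2, 1, 2, 1, 4, 0, 3, 0, 3, 1, 2, 1, 3, 1, 4, 0, 2, 0, 3, 0]], 6072)] from AllP.cons (cos0 hu hg) (AllP.cons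 (cos1 hu hg) (AllP.cons (cos4 hu hg) (AllP.cons (cos6 hu hg) (AllP.cons (cos7 hu hg) (AllP.cons (cos10 hu hg) (AllP.cons (cos12 hu hg) (AllP.nil))))))), hu.rinv rinv, by decide +kernel⟩
omit hg in
theorem loops : AllP Y.Loop CL :=
  show AllP Y.Loop [(0, [[0], [2], [4]], 501397585920), (1, [[3, 0, 2, 0, 3, 0, 2, 0, 2, 0, 2, 0, 3, 0, 2, 0, 2, 0, 2, 0, 2, 0, 2, 0, 3, 0, 3, 0, 3, 0, 3, 0, 2, 0, 2, 0, 2, 0, 3, 0, 3, 0, 2, 0, 2, 0, 2, 0, 3, 0, 2, 0, 2, 1, 2, 1, 3, 1, 3, 1, 3, 1, 3, 1, 2, 1, 4, 0, 3, 0, 2, 0, 2, 0, 2, 0, 2, 0, 3, 0], [3, 0, 2, 0, 3, 0, 2, 0, 3, 0, 3, 0, 3, 0, 2, 0, 3, 0, 2, 0, 3, 0, 3, 0, 3, 0, 2, 0, 2, 0, 3, 0, 2, 0, 3, 0, 2, 0, 3, 3, 1, 2, 1, 3, 1, 3, 1, 3, 1,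 3, 1, 4, 0, 2, 0, 2, 0, 2, 0, 2, 0, 3, 0, 2, 0, 2, 0, 2, 0]], 33030144), (4, [[0, 2, 0, 2, 0, 2, 0, 2, 0, 2, 0, 3, 0, 2, 0, 2, 0, 2, 0, 3, 0, 3, 0, 3, 0, 3, 0, 3, 0, 3, 0, 3, 0, 3, 0, 3, 0, 2, 0, 3, 0, 3, 0, 3, 0, 3, 0, 2, 0, 3, 0, 2, 2, 1, 3, 1, 3, 1, 2, 1, 2, 1, 2, 1, 2, 1, 3, 1, 2, 1, 4, 0, 3, 0, 2, 0, 3, 0, 3, 0, 3, 0, 3, 0, 2, 0, 2, 0, 3, 0, 2], [2, 0, 2, 0, 3, 0, 3, 0, 3, 0, 3, 0, 3, 0, 3, 0, 3, 0, 2, 0, 2, 0, 2, 0, 3, 0, 2, 0, 3, 0, 2, 0, 3, 0, 3, 0, 3, 0, 2, 0, 3, 0, 3, 0, 3, 0, 3, 0, 3, 0, 3, 0, 3, 3, 1, 3, 1, 3, 1, 2, 1, 2, 1, 2, 1, 3, 1, 2, 1, 2, 1, 2, 1, 4, 0, 3, 0, 3, 0, 3, 0, 2, 0, 3, 0, 3, 0, 3, 0, 2, 0, 2, 0, 2]], 17694720), (6, [[0, 3, 0, 2, 0, 2, 0, 3, 0,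 2, 0, 3, 0, 3, 0, 3, 0, 2, 0, 2, 0, 3, 0, 3, 0, 2, 0, 3, 0, 2, 0, 3, 0, 2, 0, 3, 0, 3, 0, 3, 0, 2, 0, 3, 0, 3, 0, 3, 0, 3, 0, 2, 0, 3, 0, 2, 2, 1, 2, 1, 2, 1, 2, 1, 3, 1, 2, 1, 3, 1, 2, 1, 3, 1, 2, 1, 3, 1, 4, 0, 2, 0, 3, 0, 2, 0, 3, 0, 2, 0, 3, 0, 2, 0, 3, 0, 3, 0, 3, 0, 3], [0, 2, 0, 3, 0, 2, 0, 3, 0, 2, 0, 2, 0, 2, 0, 3, 0, 2, 0, 2, 0, 2, 0, 2, 0, 2, 0, 2, 0, 3, 0, 3, 0, 2, 0, 2, 0, 3, 0, 3, 0, 3, 0, 3, 0, 3, 0, 2, 0, 3, 3, 1, 2, 1, 3, 1, 2, 1, 2, 1, 3, 1, 3, 1, 3, 1, 3, 1, 2, 1, 2, 1, 4, 0, 3, 0, 3, 0, 2, 0, 2, 0, 2, 0, 2, 0, 3, 0, 3, 0, 2, 0, 3, 0, 2]], 147456), (7, [[0, 2, 0, 3, 0, 3, 0, 2, 0, 2, 0, 3, 0, 3, 0, 3, 0, 3, 0, 2, 0, 3, 0, 3, 0, 3, 0, 2, 0, 3, 0, 3, 0, 3,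 0, 3, 0, 2, 0, 3, 0, 3, 0, 3, 0, 3, 0, 3, 0, 2, 2, 1, 4, 2, 1, 2, 1, 2, 1, 4, 0, 3, 0, 3, 0, 3, 0, 3, 0, 3], [2, 0, 2, 0, 3, 0, 2, 0, 2, 0, 2, 0, 2, 0, 3, 0, 2, 0, 3, 0, 2, 0, 2, 0, 2, 0, 3, 0, 2, 0, 3, 0, 2, 0, 3, 0, 3, 0, 2, 0, 2, 0, 3, 0, 3, 0, 2, 0, 3, 3, 1, 3, 1, 3, 1, 3, 1, 3, 1, 2, 1, 2, 1, 4, 0, 3, 0, 3, 0, 2, 0, 2, 0, 2, 0, 2, 0, 2, 0]], 15360), (10, [[0, 2, 0, 2, 0, 2, 0, 3, 0, 2, 0, 3, 0, 2, 0, 2, 0, 3, 0, 3, 0, 3, 0, 2, 0, 2, 0, 3, 0, 3, 0, 3, 0, 3, 0, 3, 0, 3, 0, 2, 0, 2, 0, 2, 0, 2, 1, 2, 1, 2, 1, 3, 1, 2, 1, 3, 1, 2, 1, 2, 1, 3, 1, 2, 1, 3, 1, 4, 0, 2, 0, 3, 0, 2, 0, 3, 0, 3, 0, 2, 0, 3, 0, 2, 0, 3, 0, 3, 0, 3], [3, 0, 2, 0, 3, 0, 2, 0, 3, 0, 2, 0, 3, 0, 3,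 0, 3, 0, 3, 0, 3, 0, 2, 0, 3, 0, 2, 0, 3, 0, 3, 0, 3, 0, 3, 0, 3, 0, 2, 0, 2, 0, 2, 0, 3, 0, 2, 0, 3, 0, 3, 0, 2, 0, 3, 1, 2, 1, 3, 1, 2, 1, 2, 1, 3, 1, 3, 1, 4, 0, 2, 0, 2, 0, 3, 0, 3, 0, 2, 0, 3, 0, 2]], 9216), (12, [[0, 2, 0, 3, 0, 3, 0, 2, 0, 2, 0, 2, 0, 2, 0, 3, 0, 2, 0, 2, 0, 3, 0, 3, 0, 2, 0, 2, 0, 2, 0, 2, 0, 3, 0, 2, 0, 3, 0, 2, 0, 3, 0, 2, 2, 1, 3, 1, 2, 1, 3, 1, 2, 1, 3, 1, 3, 1, 2, 1, 2, 1, 4, 0, 3, 0, 3, 0, 2, 0, 2, 0, 3, 0, 2, 0, 3, 0, 2, 0, 3, 0, 2], [3, 0, 3, 0, 3, 0, 2, 0, 2, 0, 3, 0, 3, 0, 2, 0, 2, 0, 2, 0, 2, 0, 2, 0, 2, 0, 2, 0, 2, 0, 2, 0, 3, 0, 2, 0, 3, 0, 3, 0, 3, 0, 3, 0, 3, 0, 2, 2, 1, 2, 1, 4, 0, 3, 0, 3, 1, 2, 1, 3, 1, 4, 0, 2, 0, 3, 0]], 6072)]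 from AllP.cons (Or.inl rfl) (AllP.cons (Or.inr (hu.loop loop1)) (AllP.cons (Or.inr (hu.loop loop4)) (AllP.cons (Or.inr (hu.loop loop6)) (AllP.cons (Or.inr (hu.loop loop7)) (AllP.cons (Or.inr (hu.loop loop10)) (AllP.cons (Or.inr (hu.loop loop12)) (AllP.nil)))))))
end

end Cfsg.Agent.Spor.J4D.V
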